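import Groth.Agent.L15.ExtSupp.ExtShHC
import Groth.Agent.L15.ExtSupp.SectAcyclic
import Groth.Agent.L17.ExactThen

/-! The local-to-global spectral sequence for cohomology with supports. -/

set_option autoImplicit false
set_option backward.defeqAttrib.useBackward true
set_option backward.isDefEq.respectTransparency false

universe u

open CategoryTheory CategoryTheory.Limits Opposite

noncomputable section

namespace Groth.L10.SuppSS

open Groth.L10.SiteFr Groth.L15.ExtSupp Groth.L17

variable {C : Type u} [SmallCategory C] {J : GrothendieckTopology C} {O : Sheaf J CommRingCat.{u}} (U : C)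

/-- forgetting to abelian sheaves -/
abbrev Φ (O : Sheaf J CommRingCat.{u}) : ModSite.Mod O ⥤ Sheaf J AddCommGrpCat.{u} :=
  SheafOfModules.toSheaf.{u} (ModSite.ringSh O)

theorem homEquiv_comp_map {X : Sheaf J (Type u)} {F G : Sheaf J AddCommGrpCat.{u}} (a : (fr J).obj X ⟶ F)
    (ψ : F ⟶ G) (W : Cᵒᵖ) (x : X.obj.obj W) :
    val ((adj J).homEquiv X G (a ≫ ψ)) W x = ψ.hom.app W (val ((adj J).homEquiv X F a) W x) := by
  rw [Adjunction.homEquiv_naturality_right]
  rfl

theorem homEquiv_map_comp {X Y : Sheaf J (Type u)} {F : Sheaf J AddCommGrpCat.{u}} (c : Y ⟶ X)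
    (a : (fr J).obj X ⟶ F) (W : Cᵒᵖ) (y : Y.obj.obj W) :
    val ((adj J).homEquiv Y F ((fr J).map c ≫ a)) W y = val ((adj J).homEquiv X F a) W (c.hom.app W y) := by
  rw [Adjunction.homEquiv_naturality_left]
  rfl

variable [ModSite.HasPushOver O U]

/-- killed over `U` iff killed by the unit -/
theorem eps_iff (N : ModSite.Mod O) (a : (fr J).obj (ptSh (J := J)) ⟶ (Φ O).obj N) :
    (fr J).map (terminal.from (ToposFin.eps J U)) ≫ a = 0 ↔
      a ≫ (Φ O).map ((ModSite.restrPushOverAdj O U).unit.app N) = 0 := by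
  let x : ∀ W : Cᵒᵖ, (ptSh (J := J)).obj.obj W → N.val.obj W := fun W w => val ((adj J).homEquiv _ _ a) W w
  constructor
  · intro h
    refine ((adj J).homEquiv _ _).injective (val_ext fun W w => ?_)
    rw [homEquiv_comp_map, Groth.L15.SectAcyclic.homEquiv_zero_app]
    obtain ⟨V⟩ := W
    refine Groth.L15.SectAcyclic.unit_app_eq_zero N (x (op V) w) fun W f g => ?_
    let s : (ToposFin.eps J U).obj.obj (op W) := (CategoryTheory.toSheafify J (yoneda.obj U)).app (op W) g
    have h1 := homEquiv_map_comp (terminal.from (ToposFin.eps J U)) a (op W) s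
    rw [h, Groth.L15.SectAcyclic.homEquiv_zero_app] at h1
    refine ((val_natural ((adj J).homEquiv _ _ a) f.op w).symm.trans ?_)
    haveI := (unique_pt (J := J) (op W)).some
    refine Eq.trans ?_ h1.symm
    exact congrArg (val ((adj J).homEquiv _ _ a) (op W)) (Subsingleton.elim _ _)
  · intro h
    refine ((adj J).homEquiv _ _).injective (val_ext fun W s => ?_)
    rw [homEquiv_map_comp, Groth.L15.SectAcyclic.homEquiv_zero_app]
    obtain ⟨V⟩ := W
    let z : ModSite.sect N V := x (op V) ((terminal.from (ToposFin.eps J U)).hom.app (op V) s)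
    refine Groth.L15.ExtSupp.sect_ext N _
      (Presheaf.imageSieve_mem J (CategoryTheory.toSheafify J (yoneda.obj U)) (U := op V) s) z 0 fun W f ⟨g, _⟩ => ?_
    have h1 := homEquiv_comp_map a ((Φ O).map ((ModSite.restrPushOverAdj O U).unit.app N)) (op V)
      ((terminal.from (ToposFin.eps J U)).hom.app (op V) s)
    rw [h, Groth.L15.SectAcyclic.homEquiv_zero_app] at h1
    obtain ⟨y, hy⟩ := Groth.L15.LocPres.exists_kernel_sect ((ModSite.restrPushOverAdj O U).unit.app N) z h1.symm
    refine Eq.trans ?_ (map_zero (N.val.map f.op).hom).symm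
    rw [← hy]
    refine (Groth.L15.ExtSupp.res_natural (kernel.ι ((ModSite.restrPushOverAdj O U).unit.app N)) f y).trans ?_
    exact Groth.L15.ExtSupp.val_app_eq_zero_of_restr U _
      ((Groth.L15.ExtSupp.unit_comp_eq_zero_iff U _).1 (kernel.condition _)) g _

/-- the constant sheaf `ℤ` -/
abbrev Z : Sheaf J AddCommGrpCat.{u} :=
  (constantSheaf J AddCommGrpCat.{u}).obj (AddCommGrpCat.of (ULift.{u} ℤ))

theorem sect_exact (N : ModSite.Mod O) :
    ∃ w, (ShortComplex.mk ((Φ O).map ((ModSite.sectOnι O U).app N))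
      ((Φ O).map ((ModSite.restrPushOverAdj O U).unit.app N)) w).Exact ∧
      Mono ((Φ O).map ((ModSite.sectOnι O U).app N)) := by
  haveI := Groth.L10.ModAcyc.preservesFiniteLimits_toSheaf O
  let S := ShortComplex.mk (kernel.ι ((ModSite.restrPushOverAdj O U).unit.app N))
    ((ModSite.restrPushOverAdj O U).unit.app N) (kernel.condition _)
  have hS : S.Exact := ShortComplex.exact_of_f_is_kernel _ (kernelIsKernel _)
  haveI : Mono S.f := inferInstanceAs (Mono (kernel.ι _))
  exact ⟨(S.map (Φ O)).zero, hS.map_of_mono_of_preservesKernel (Φ O) ‹_› inferInstance,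
    inferInstanceAs (Mono ((Φ O).map S.f))⟩

/-- `Hom(ℤ, Γ_Z N) = Hom(ℤ/ℤ_U, N)` -/
def supEquiv (N : ModSite.Mod O) :
    (Z (J := J) ⟶ (Φ O).obj ((ModSite.sectOn O U).obj N)) ≃+
      (ToposFin.quotZ (ToposFin.eps J U) ⟶ (Φ O).obj N) where
  toFun z := cokernel.desc _ ((frPtIso.hom ≫ z ≫ (Φ O).map ((ModSite.sectOnι O U).app N)))
    ((eps_iff U N _).2 (by
      rw [Category.assoc, Category.assoc, ← Functor.map_comp]
      exact (congrArg (fun t => frPtIso.hom ≫ z ≫ (Φ O).map t) (kernel.condition _)).trans (by simp)))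
  invFun ψ :=
    haveI : Mono (ShortComplex.mk _ _ (sect_exact U N).choose).f := (sect_exact U N).choose_spec.2
    frPtIso.inv ≫ (sect_exact U N).choose_spec.1.lift (cokernel.π _ ≫ ψ) ((eps_iff U N _).1 (by
      exact (Category.assoc _ _ _).symm.trans ((congrArg (· ≫ ψ) (cokernel.condition _)).trans zero_comp)))
  left_inv z := by
    haveI := (sect_exact U N).choose_spec.2
    rw [← cancel_mono ((Φ O).map ((ModSite.sectOnι O U).app N)), Category.assoc]
    refine (congrArg (frPtIso.inv ≫ ·) ((sect_exact U N).choose_spec.1.lift_f _ _)).trans ?_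
    show frPtIso.inv ≫ cokernel.π _ ≫ cokernel.desc _ _ _ = _
    rw [cokernel.π_desc, Iso.inv_hom_id_assoc]
  right_inv ψ := by
    haveI := (sect_exact U N).choose_spec.2
    apply coequalizer.hom_ext
    refine (cokernel.π_desc _ _ _).trans ?_
    dsimp only
    rw [Category.assoc, Iso.hom_inv_id_assoc]
    exact (sect_exact U N).choose_spec.1.lift_f _ _
  map_add' z z' := by
    apply coequalizer.hom_ext
    refine (cokernel.π_desc _ _ _).trans ?_
    refine Eq.trans ?_ (Preadditive.comp_add _ _ _ _ _ _).symm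
    erw [cokernel.π_desc, cokernel.π_desc]
    rw [Preadditive.add_comp, Preadditive.comp_add]

theorem supEquiv_natural {N N' : ModSite.Mod O} (g : N ⟶ N') (z : Z (J := J) ⟶ (Φ O).obj ((ModSite.sectOn O U).obj N)) :
    supEquiv U N' (z ≫ (Φ O).map ((ModSite.sectOn O U).map g)) = supEquiv U N z ≫ (Φ O).map g := by
  apply coequalizer.hom_ext
  refine (cokernel.π_desc _ _ _).trans ?_
  refine Eq.trans ?_ ((congrArg (· ≫ _) (cokernel.π_desc _ _ _)).symm.trans (Category.assoc _ _ _))
  rw [Category.assoc, Category.assoc, Category.assoc, ← Functor.map_comp, ← Functor.map_comp,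
    (ModSite.sectOnι O U).naturality g]
  rfl

/-- as functors -/
def supIso : (ModSite.sectOn O U ⋙ Φ O) ⋙ GrothSS.homFun (Z (J := J)) ≅
    Φ O ⋙ GrothSS.homFun (ToposFin.quotZ (ToposFin.eps J U)) :=
  NatIso.ofComponents (fun N => AddEquiv.toAddCommGrpIso (supEquiv U N)) fun {N N'} g => by
    ext z
    exact supEquiv_natural U g z

theorem exists_spectralSequence [HasInjectiveResolutions (ModSite.Mod O)] (N : ModSite.Mod O) :
    ∃ (E : E₂CohomologicalSpectralSequence AddCommGrpCat.{u})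
      (a : SpSeq.Abutment E (fun n : ℤ =>
        if 0 ≤ n then AddCommGrpCat.of (ModSite.HZ U N n.toNat) else AddCommGrpCat.of PUnit.{u + 1})),
      (∀ n : ℤ, a.IsFinite n) ∧ SpSeq.IsBounded E ∧
      ∀ p q : ℤ, Nonempty ((E.page 2 le_rfl).X (p, q) ≅
        (if 0 ≤ p ∧ 0 ≤ q then AddCommGrpCat.of (ModSite.HC O ((ModSite.HZsh O U q.toNat).obj N) p.toNat)
          else AddCommGrpCat.of PUnit.{u + 1})) := by
  haveI := enoughInjectives (A := ModSite.Mod O)
  letI := HasDerivedCategory.standard (Sheaf J AddCommGrpCat.{u})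
  haveI := Groth.L10.ModAcyc.preservesFiniteLimits_toSheaf O
  haveI : PreservesFiniteColimits (Φ O) :=
    (((Φ O).exact_tfae.out 0 3 rfl rfl).1 fun S hS => Groth.L10.ModAcyc.shortExact_toSheaf O hS).2
  have hzero : IsZero (AddCommGrpCat.of PUnit.{u + 1}) := AddCommGrpCat.isZero_of_subsingleton _
  refine GrothSS.exists_spectralSequence_of_iso (ModSite.sectOn O U ⋙ Φ O) (GrothSS.homFun (Z (J := J))) ?_ N _
    (fun p q => if 0 ≤ p ∧ 0 ≤ q then AddCommGrpCat.of (ModSite.HC O ((ModSite.HZsh O U q.toNat).obj N) p.toNat)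
      else AddCommGrpCat.of PUnit.{u + 1}) ?_ ?_ ?_ ?_
  · intro Q hQ q hq
    obtain ⟨j, rfl⟩ : ∃ j, q = j + 1 := ⟨q - 1, by omega⟩
    haveI := injective_sectOn U Q
    obtain ⟨e⟩ := GrothSS.nonempty_rightDerived_homFun (Z (J := J)) ((ModSite.sectOn O U ⋙ Φ O).obj Q) (j + 1)
    haveI : Subsingleton (Abelian.Ext ((fr J).obj (ptSh (J := J)))
        (ModSite.toAb ((ModSite.sectOn O U).obj Q)) (j + 1)) :=
      Groth.L10.InjTA.isTotallyAcyclic O ((ModSite.sectOn O U).obj Q) _ j
    have h := subsingleton_ext_of_iso (F := ModSite.toAb ((ModSite.sectOn O U).obj Q)) (n := j + 1) (frPtIso (J := J))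
    exact (@AddCommGrpCat.isZero_of_subsingleton (AddCommGrpCat.of (Abelian.Ext (Z (J := J))
        ((ModSite.sectOn O U ⋙ Φ O).obj Q) (j + 1))) h).of_iso e
  · intro n
    obtain ⟨e⟩ := GrothSS.nonempty_rightDerived_homFun (ToposFin.quotZ (ToposFin.eps J U)) ((Φ O).obj N) n
    obtain ⟨e'⟩ := GrothSS.nonempty_rightDerived_exact_comp (Φ O)
      (GrothSS.homFun (ToposFin.quotZ (ToposFin.eps J U))) (fun Q hQ q hq => by
        obtain ⟨j, rfl⟩ : ∃ j, q = j + 1 := ⟨q - 1, by omega⟩
        obtain ⟨a⟩ := GrothSS.nonempty_rightDerived_homFun (ToposFin.quotZ (ToposFin.eps J U)) ((Φ O).obj Q) (j + 1)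
        haveI := subsingleton_ext_quotZ (haveI := hQ; Groth.L10.InjTA.isTotallyAcyclic O Q) (ToposFin.eps J U) j
        exact (@AddCommGrpCat.isZero_of_subsingleton
          (AddCommGrpCat.of (Abelian.Ext (ToposFin.quotZ (ToposFin.eps J U)) ((Φ O).obj Q) (j + 1))) this).of_iso a)
      N n
    exact ⟨eqToIso ((if_pos (Int.natCast_nonneg n)).trans (show AddCommGrpCat.of (ModSite.HZ U N (n : ℤ).toNat) =
        AddCommGrpCat.of (Abelian.Ext.{u} (ToposFin.quotZ (ToposFin.eps J U)) ((Φ O).obj N) n) from rfl)) ≪≫ e.symm ≪≫ e'.symm ≪≫ ((rightDerivedIso (supIso U) n).app N).symm⟩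
  · intro n hn
    rw [if_neg (by omega)]
    exact hzero
  · intro p q
    obtain ⟨e⟩ := GrothSS.nonempty_rightDerived_homFun (Z (J := J))
      (ModSite.toAb ((ModSite.HZsh O U q).obj N)) p
    exact ⟨((GrothSS.homFun (Z (J := J))).rightDerived p).mapIso
      (rightDerivedCompExact (ModSite.sectOn O U) (Φ O) q N) ≪≫ e ≪≫ eqToIso (by simp <;> exact ⟨rfl, HEq.rfl⟩)⟩
  · intro p q h
    rw [if_neg h]
    exact hzero

end Groth.L10.SuppSS
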